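import Cfsg.Agent.Chevalley.GraphData
import Cfsg.Agent.Chevalley.Data.SysD4
import Cfsg.Agent.Chevalley.Data.SysG2
import Cfsg.Agent.ChevField.Fixed

/-!
The folding of the tables of type D4 under the triality: coordinates, signs, the fixed vectors and
the words of the folded root elements.
-/

set_option autoImplicit false

namespace CfsgLib.Triality

open Cfsg.Lie CfsgLib.Chevalley
open scoped Matrix

/-- the permutation of the roots -/
abbrev pR : ℕ → ℕ :=
  symP [0, 1, 6, 2, 7, 10, 3, 8, 4, 9, 11, 5, 18, 12, 14, 19, 15, 20, 13, 16, 21, 17, 22, 23]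

/-- the signs of the triality -/
abbrev eR : ℕ → ℤ := symE 2785620

/-- the permutation of the nodes -/
abbrev qN : ℕ → ℕ := symP [2, 1, 3, 0]

theorem symT : Sym chevD4 pR eR qN := graphD4a

/-- the folded coordinate of a coordinate -/
def foldC (x : ℕ) : ℕ :=
  [0, 1, 0, 0, 2, 3, 4, 4, 5, 6, 4, 5, 5, 7, 6, 6, 9, 9, 8, 10, 10, 11, 9, 10, 11, 11, 12, 13].getD x 0

/-- the sign of a coordinate in its orbit sum -/
def sgnC (x : ℕ) : ℤ :=
  [1, 1, 1, 1, -1, -1, -1, -1, 1, 1, 1, -1, -1, 1, 1, 1, 1, 1, 1, -1, -1, 1, 1, 1, -1, -1, -1,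
    -1].getD x 1

/-- the folded root of a root -/
def lev (r : ℕ) : ℕ := foldC (4 + r) - 2

/-- the sign of a root -/
def sg (r : ℕ) : ℤ := sgnC (4 + r)

/-- the roots over a folded root, in increasing order -/
def fibre (k : ℕ) : List ℕ := (List.range 24).filter fun r => lev r == k

/-- the word of a folded root element, in evaluator form -/
def foldW (k : ℕ) : List (ℕ × List Mon) := (fibre k).map fun r => (r, [(sg r, 1, 0)])

/-- the image of the folded root word under the triality -/
def foldW' (k : ℕ) : List (ℕ × List Mon) := (fibre k).map fun r => (pR r, [(eR r * sg r, 1, 0)])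

/-- the orbit sum over a folded coordinate, as a formal vector -/
def embCol (c : ℕ) : List (ℕ × Mon) :=
  ((List.range 28).filter fun x => foldC x == c).map fun x => (x, (sgnC x, 0, 0))

theorem foldW_fixed : ∀ k < 12, wordEqB chevD4 (foldW' k) (foldW k) = true := by decide +kernel

/-- The columns of the folded root elements agree. -/
def foldB (k c : ℕ) : Bool :=
  normV ((foldW k).foldr (fun e v => normV (appRoot chevD4 e.1 e.2 v)) (embCol c)) ==
    normV ((evalCol chevG2 [(k, [(1, 1, 0)])] c).flatMap fun e =>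
      (embCol e.1).map fun z => (z.1, (z.2.1 * e.2.1, e.2.2.1, e.2.2.2)))

theorem foldB_all : ∀ k < 12, ∀ c < 14, foldB k c = true := by decide +kernel

/-! ### Facts about the tables -/

theorem lev_lt : ∀ r < 24, lev r < 12 := by decide

theorem lev_pR : ∀ r < 24, lev (pR r) = lev r := by decide

theorem sg_pR : ∀ r < 24, sg (pR r) = eR r * sg r := by decide

theorem lev_pos_iff : ∀ r < 24, (12 ≤ r ↔ 6 ≤ lev r) := by decide

theorem pR_pos_iff : ∀ r < 24, (12 ≤ pR r ↔ 12 ≤ r) := by decide

theorem foldC_root : ∀ r < 24, foldC (4 + r) = 2 + lev r := by decide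

end CfsgLib.Triality
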